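import Groth.Agent.Lib.BigCell21.Curve
import Groth.Agent.Lib.TorPts21.BorelCover
import Groth.Agent.Lib.TorPts21.ReductiveCartan
import Groth.Agent.Lib.TorPts21.Connected
import Groth.Agent.Lib.TorPts21.BorelCentre
import Groth.Agent.Lib.InvRing21.GLSmooth
import Groth.Agent.Lib.BorelFix21.BorelConj

/-!
# The open cell of a reductive group

For a Borel subgroup `B` of a connected affine group there is a connected solvable subgroup `D` such that the
rational points of a nonempty open subset lie in `D B`.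
-/

set_option autoImplicit false
set_option linter.style.haveILetI false
set_option backward.isDefEq.respectTransparency.types false
universe u

open CategoryTheory Limits MonoidalCategory CartesianMonoidalCategory MonObj AlgebraicGeometry

noncomputable section

namespace Groth.Agent.BigCell21

open MatGrp21 InvRing21 DiagGL TorPts21
open scoped Matrix

attribute [local instance] InvRing21.gamAlg BorelFix21.ptsTop

variable {k : Type u} [Field k] [IsAlgClosed k] {n d : ℕ}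

/-- The weights of the coordinates along a cocharacter. -/
def wt (a : Fin n → Fin d → ℤ) (b : Fin d → ℤ) : Fin n → ℤ := fun i => TorPts21.pairing (a i) b

theorem wt_neg (a : Fin n → Fin d → ℤ) (b : Fin d → ℤ) : wt a (-b) = fun i => -wt a b i := funext fun i => by
  simp [wt, TorPts21.pairing]

variable {G T : Over (Spec (CommRingCat.of k))} [GrpObj G] [GrpObj T]

section Fixed

variable {iT : T ⟶ G} (C : Chars (Fin d → ℤ) T) {r : G ⟶ GLs k n} {a : Fin n → Fin d → ℤ} {b : Fin d → ℤ}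
  (hdiag : ∀ τ : VecGrp.pt k k ⟶ T, (mtxFn r (τ ≫ iT) : Matrix (Fin n) (Fin n) k) =
    Matrix.diagonal fun j => ptChr C τ (Multiplicative.ofAdd (a j)))
  (hsep : ∀ i j, wt a b i = wt a b j → a i = a j)
  {Cz : Over (Spec (CommRingCat.of k))} [GrpObj Cz] {cz : Cz ⟶ G} [IsMonHom cz]
  (hcent : ∀ x : VecGrp.pt k k ⟶ G,
    (∀ τ : VecGrp.pt k k ⟶ T, x * (τ ≫ iT) = (τ ≫ iT) * x) ↔ ∃ z : VecGrp.pt k k ⟶ Cz, z ≫ cz = x)

omit [GrpObj G] in
include hdiag in
theorem exists_scalePt (b' : Fin d → ℤ) (s : kˣ) :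
    ∃ τ : VecGrp.pt k k ⟶ T, (mtxFn r (τ ≫ iT) : Matrix (Fin n) (Fin n) k) = dg (wt a b') s := by
  obtain ⟨τ, hτ⟩ := exists_cochar_pt C b' s
  refine ⟨τ, (hdiag τ).trans ?_⟩
  rw [dg]
  congr 1
  funext j
  exact hτ (a j)

omit [IsAlgClosed k] [GrpObj G] in
include hdiag in
theorem torus_mem_blockUp (b' : Fin d → ℤ) (τ : VecGrp.pt k k ⟶ T) : mtxFn r (τ ≫ iT) ∈ blockUp (wt a b') :=
  fun i j h => by
    rw [hdiag]
    exact Matrix.diagonal_apply_ne _ fun e => h.ne (congrArg (wt a b') e)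

variable [IsAffine G.left] [IsMonHom r] [IsClosedImmersion r.left]

include hdiag in
theorem curve_mem_range {x : VecGrp.pt k k ⟶ G} (hx : mtxFn r x ∈ blockUp (wt a b)) {g : GL (Fin n) k} {s : k}
    (hg : (g : Matrix (Fin n) (Fin n) k) = curveAt (wt a b) (mtxFn r x : Matrix (Fin n) (Fin n) k) s) :
    g ∈ Set.range (mtxFn r) ∩ (blockUp (k := k) (wt a b) : Set (GL (Fin n) k)) := by
  refine mem_of_infinite ((isClosed_range_mtxFn r).inter (isClosed_blockUp _))
    (curve (wt a b) (mtxFn r x : Matrix (Fin n) (Fin n) k))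
    ((Set.finite_singleton (0 : k)).infinite_compl.mono fun t ht => ?_) hg
  obtain ⟨τ, hτ⟩ := exists_scalePt C hdiag b (Units.mk0 t ht)
  have he : mtxFn r ((τ ≫ iT) * x * (τ ≫ iT)⁻¹) = mtxFn r (τ ≫ iT) * mtxFn r x * (mtxFn r (τ ≫ iT))⁻¹ := by
    rw [← mtx_apply, map_mul, map_mul, map_inv, mtx_apply, mtx_apply]
  refine ⟨_, ⟨⟨_, he⟩, ?_⟩, conj_eq_curveAt hτ hx⟩
  exact mul_mem (mul_mem (torus_mem_blockUp C hdiag b τ) hx) (inv_mem (torus_mem_blockUp C hdiag b τ))

omit [GrpObj Cz] [IsMonHom cz] in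
include hdiag hsep hcent in
/-- The limit of a point of the contracted subgroup centralises the torus. -/
theorem exists_limit {x : VecGrp.pt k k ⟶ G} (hx : mtxFn r x ∈ blockUp (wt a b)) :
    ∃ z : VecGrp.pt k k ⟶ Cz, (mtxFn r (z ≫ cz) : Matrix (Fin n) (Fin n) k) =
      curveAt (wt a b) (mtxFn r x : Matrix (Fin n) (Fin n) k) 0 := by
  obtain ⟨g, hg⟩ := exists_curveGL hx 0
  obtain ⟨⟨x₀, rfl⟩, -⟩ := curve_mem_range C hdiag hx hg
  obtain ⟨τ, rfl⟩ := (hcent x₀).1 fun t => mtxFn_injective r (by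
    rw [← mtx_apply, ← mtx_apply, map_mul, map_mul]
    refine Units.ext ?_
    rw [Units.val_mul, Units.val_mul, mtx_apply, mtx_apply, hdiag t, hg]
    ext i j
    rw [Matrix.mul_diagonal, Matrix.diagonal_mul, curveAt_zero_apply hx]
    split_ifs with h
    · rw [hsep i j h, mul_comm]
    · rw [zero_mul, mul_zero])
  exact ⟨τ, hg⟩

omit [GrpObj Cz] [IsMonHom cz] [IsAffine G.left] [IsClosedImmersion r.left] in
include hdiag hcent in
theorem centralizer_mem_blockUp (z : VecGrp.pt k k ⟶ Cz) (b' : Fin d → ℤ) :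
    mtxFn r (z ≫ cz) ∈ blockUp (wt a b') := fun i j h => by
  by_contra hne
  have hij : ∀ τ : VecGrp.pt k k ⟶ T, ptChr C τ (Multiplicative.ofAdd (a j)) = ptChr C τ (Multiplicative.ofAdd (a i)) :=
    fun τ => by
      have h1 := congrArg (fun g => (mtxFn r g : Matrix (Fin n) (Fin n) k) i j) ((hcent _).2 ⟨z, rfl⟩ τ)
      simp only [← mtx_apply, map_mul, Units.val_mul] at h1
      rw [mtx_apply, mtx_apply, hdiag τ, Matrix.mul_diagonal, Matrix.diagonal_mul, mul_comm] at h1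
      exact mul_right_cancel₀ hne h1
  exact h.ne (congrArg (fun q => TorPts21.pairing q b') (TorPts21.eq_of_forall_ptChr C hij).symm)

omit [IsAlgClosed k] [IsAffine G.left] [IsMonHom r] [IsClosedImmersion r.left] in
/-- The limit is multiplicative. -/
theorem curveAt_zero_mul {w : Fin n → ℤ} {M N : Matrix (Fin n) (Fin n) k} (hM : IsUp w M) (hN : IsUp w N)
    (hMN : IsUp w (M * N)) : curveAt w (M * N) 0 = curveAt w M 0 * curveAt w N 0 := by
  ext i j
  rw [curveAt_zero_apply hMN, Matrix.mul_apply (M := curveAt w M 0)]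
  rw [Finset.sum_congr rfl fun l _ => congrArg₂ (· * ·) (curveAt_zero_apply hM i l) (curveAt_zero_apply hN l j)]
  split_ifs with hij
  · rw [Matrix.mul_apply]
    refine Finset.sum_congr rfl fun l _ => ?_
    by_cases hl : w i = w l
    · rw [if_pos hl, if_pos (hl.symm.trans hij)]
    · rw [if_neg hl, zero_mul]
      rcases lt_or_gt_of_ne hl with h | h
      · rw [hM i l h, zero_mul]
      · rw [hN l j (hij ▸ h), mul_zero]
  · exact (Finset.sum_eq_zero fun l _ => by
      by_cases hl : w i = w l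
      · rw [if_neg (fun h => hij (hl.trans h)), mul_zero]
      · rw [if_neg hl, zero_mul]).symm

variable [Smooth Cz.hom] [ConnectedSpace Cz.left] [Smooth G.hom]

omit [Smooth G.hom] in
include hdiag hsep hcent in
theorem isPreconnected_upperSet : IsPreconnected {x : VecGrp.pt k k ⟶ G | mtxFn r x ∈ blockUp (wt a b)} := by
  refine (isClosedEmbedding_mtxFn r).isInducing.isPreconnected_image.1 (isPreconnected_of_forall 1 ?_)
  rintro _ ⟨x, hx, rfl⟩
  haveI := BorelFix21.preconnectedSpace_pts (G := Cz)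
  set w := wt a b
  let Tset : Set (GL (Fin n) k) := Set.range fun z : VecGrp.pt k k ⟶ Cz => mtxFn r (z ≫ cz)
  let Cset : Set (GL (Fin n) k) := {g | ∃ s, (g : Matrix (Fin n) (Fin n) k) =
    (curve w (mtxFn r x : Matrix (Fin n) (Fin n) k)).map (Polynomial.eval s)}
  have hT : IsPreconnected Tset :=
    isPreconnected_range ((continuous_mtxFn r).comp (BorelFix21.continuous_comp cz))
  have hC : IsPreconnected Cset := isPreconnected_curve _ fun s => exists_curveGL hx s
  obtain ⟨τ, hτ⟩ := exists_limit C hdiag hsep hcent hx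
  refine ⟨Tset ∪ Cset, Set.union_subset ?_ ?_, Or.inl ⟨1, ?_⟩, Or.inr ⟨1, (curveAt_one w _).symm⟩,
    hT.union' ⟨_, ⟨τ, rfl⟩, 0, hτ⟩ hC⟩
  · rintro _ ⟨t, rfl⟩
    exact ⟨t ≫ cz, centralizer_mem_blockUp C hdiag hcent t b, rfl⟩
  · rintro g ⟨s, hs⟩
    obtain ⟨⟨y, rfl⟩, hy⟩ := curve_mem_range C hdiag hx hs
    exact ⟨y, hy, rfl⟩
  · show mtxFn r ((1 : VecGrp.pt k k ⟶ Cz) ≫ cz) = 1
    rw [MonObj.one_comp, ← mtx_apply, map_one]

omit [Smooth Cz.hom] [ConnectedSpace Cz.left] [Smooth G.hom] in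
include hdiag hsep hcent in
theorem isSolvable_upperSet [Mono cz] [Group.IsSolvable (VecGrp.pt k k ⟶ Cz)] :
    Group.IsSolvable ((blockUp (k := k) (wt a b)).comap (mtx r)) := by
  classical
  choose z hz using fun x : ((blockUp (k := k) (wt a b)).comap (mtx r)) => exists_limit C hdiag hsep hcent x.2
  let L : ((blockUp (k := k) (wt a b)).comap (mtx r)) →* (VecGrp.pt k k ⟶ Cz) := MonoidHom.mk' z fun x y =>
    (cancel_mono cz).1 (mtxFn_injective r (Units.ext (by
      rw [MonObj.mul_comp, ← mtx_apply r (z x ≫ cz * z y ≫ cz), map_mul, Units.val_mul, mtx_apply, mtx_apply, hz, hz,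
        hz, Subgroup.coe_mul, ← mtx_apply r (x.1 * y.1), map_mul, Units.val_mul, mtx_apply, mtx_apply]
      exact curveAt_zero_mul x.2 y.2 (by
        have h := (x * y).2
        rw [Subgroup.mem_comap, Subgroup.coe_mul, map_mul] at h
        exact h))))
  suffices h : Group.IsSolvable L.ker from Group.isSolvable_of_ker_le_range L.ker.subtype L (by simp)
  let ρ : L.ker →* ((Fin n → k) ≃ₗ[k] (Fin n → k)) :=
    { toFun := fun x => LinearEquiv.ofLinearMap (Matrix.mulVecLin (mtx r x.1.1 : Matrix (Fin n) (Fin n) k))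
        (Matrix.mulVecLin (((mtx r x.1.1)⁻¹ : GL (Fin n) k) : Matrix (Fin n) (Fin n) k))
        (by rw [← Matrix.mulVecLin_mul, ← Units.val_mul, mul_inv_cancel, Units.val_one, Matrix.mulVecLin_one])
        (by rw [← Matrix.mulVecLin_mul, ← Units.val_mul, inv_mul_cancel, Units.val_one, Matrix.mulVecLin_one])
      map_one' := LinearEquiv.toLinearMap_injective (by simp)
      map_mul' := fun x y => LinearEquiv.toLinearMap_injective (by
        simp [Matrix.mulVecLin_mul, Module.End.mul_eq_comp]) }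
  have hρ : ∀ x v, ρ x v = (mtxFn r x.1.1 : Matrix (Fin n) (Fin n) k) *ᵥ v := fun x v => rfl
  refine BorelFix21.isSolvable_of_chain ρ (fun x y h => Subtype.ext (Subtype.ext (mtxFn_injective r (Units.ext ?_)))) ?_
  · exact Matrix.toLin'.injective (LinearMap.ext fun v => (hρ x v).symm.trans ((LinearEquiv.congr_fun h v).trans (hρ y v)))
  intro U hU hst
  have hne : (Finset.univ.filter fun i => ∃ u ∈ U, u i ≠ 0).Nonempty := by
    by_contra h
    rw [Finset.not_nonempty_iff_eq_empty, Finset.filter_eq_empty_iff] at h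
    exact hU ((Submodule.eq_bot_iff U).2 fun u hu => funext fun i => by_contra fun hi => h (Finset.mem_univ i) ⟨u, hu, hi⟩)
  obtain ⟨i₀, hi₀, hmin⟩ := Finset.exists_min_image _ (wt a b) hne
  obtain ⟨v, hv, hvi⟩ := (Finset.mem_filter.1 hi₀).2
  refine ⟨U ⊓ LinearMap.ker (LinearMap.proj (R := k) (φ := fun _ : Fin n => k) i₀), inf_le_left,
    fun x u hu => ⟨hst x u hu.1, ?_⟩, v, hv, fun h => hvi h.2, fun u hu => ?_⟩
  · show (ρ x u) i₀ = 0
    rw [hρ]
    simp only [Matrix.mulVec, dotProduct]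
    refine Finset.sum_eq_zero fun j _ => ?_
    by_cases hj : u j = 0
    · rw [hj, mul_zero]
    · have hne' : i₀ ≠ j := fun e => hj (e ▸ hu.2)
      have hle := hmin j (Finset.mem_filter.2 ⟨Finset.mem_univ _, u, hu.1, hj⟩)
      rw [show (mtxFn r x.1.1 : Matrix (Fin n) (Fin n) k) i₀ j = 0 from ?_, zero_mul]
      rcases hle.lt_or_eq with hw | hw
      · exact x.1.2 i₀ j hw
      · have h1 := congrFun (congrFun (hz x.1) i₀) j
        rw [show z x.1 = 1 from x.2, MonObj.one_comp, ← mtx_apply, map_one, Units.val_one, Matrix.one_apply_ne hne',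
          curveAt_zero_apply (M := (mtxFn r x.1.1 : Matrix (Fin n) (Fin n) k)) x.1.2, if_pos hw] at h1
        exact h1.symm
  · refine Submodule.mem_sup.2 ⟨u - (u i₀ / v i₀) • v, ⟨U.sub_mem hu (U.smul_mem _ hv), ?_⟩, _,
      Submodule.smul_mem _ (u i₀ / v i₀) (Submodule.mem_span_singleton_self v), sub_add_cancel _ _⟩
    show (u - (u i₀ / v i₀) • v) i₀ = 0
    rw [Pi.sub_apply, Pi.smul_apply, smul_eq_mul, div_mul_cancel₀ _ hvi, sub_self]

include hdiag hsep hcent in
/-- The contracted subgroup is connected and solvable. -/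
theorem exists_upperGroup [Mono cz] [Group.IsSolvable (VecGrp.pt k k ⟶ Cz)] :
    ∃ (Z : Over (Spec (CommRingCat.of k))) (_ : GrpObj Z) (j : Z ⟶ G), IsMonHom j ∧ IsClosedImmersion j.left ∧
      Smooth Z.hom ∧ ConnectedSpace Z.left ∧ Red.IsSolvableGrp Z ∧
      ∀ x : VecGrp.pt k k ⟶ G, (∃ y : VecGrp.pt k k ⟶ Z, y ≫ j = x) ↔ mtxFn r x ∈ blockUp (wt a b) := by
  set H := (blockUp (k := k) (wt a b)).comap (mtx r) with hH
  have hcl : IsClosed (H : Set (VecGrp.pt k k ⟶ G)) := (isClosed_blockUp _).preimage (continuous_mtxFn r)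
  obtain ⟨Z, _, j, hj, hjc, hsm, hrange, hpts⟩ := exists_closed_subgroup_of_pts H hcl
  haveI := hj
  haveI := hjc
  haveI := hsm
  haveI : Mono j := Over.mono_of_mono_left j
  haveI : IsAffine Z.left := isAffine_of_isAffineHom j.left
  have hconn : ConnectedSpace Z.left := by
    have h1 : _root_.IsConnected (Set.range j.left) := by
      rw [hrange]
      exact ⟨(Set.Nonempty.image _ ⟨1, one_mem H⟩).closure,
        ((isPreconnected_upperSet C hdiag hsep hcent).image InvRing21.img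
          continuous_induced_dom.continuousOn).closure⟩
    exact j.left.isClosedEmbedding.isEmbedding.toHomeomorph.symm.connectedSpace_iff.1
      (isConnected_iff_connectedSpace.1 h1)
  haveI := hconn
  haveI := isSolvable_upperSet C hdiag hsep hcent
  let f : (VecGrp.pt k k ⟶ Z) →* H := MonoidHom.mk' (fun y => ⟨y ≫ j, (hpts _).1 ⟨y, rfl⟩⟩)
    fun x y => Subtype.ext (MonObj.mul_comp x y j)
  haveI : Group.IsSolvable (VecGrp.pt k k ⟶ Z) :=
    Group.isSolvable_of_isSolvable_injective (f := f) fun x y h => (cancel_mono j).1 (congrArg Subtype.val h)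
  exact ⟨Z, inferInstance, j, hj, hjc, hsm, hconn, BorelFix21.isSolvableGrp_of_points inferInstance, hpts⟩

end Fixed

variable [Smooth G.hom]

set_option maxHeartbeats 1600000 in
/-- Factorisation of the points with nonzero minors. -/
theorem exists_factor {iT : T ⟶ G} [IsMonHom iT] (C : Chars (Fin d → ℤ) T) (r : G ⟶ GLs k n) [IsMonHom r]
    [IsClosedImmersion r.left] (a : Fin n → Fin d → ℤ) (b : Fin d → ℤ)
    (hdiag : ∀ τ : VecGrp.pt k k ⟶ T, (mtxFn r (τ ≫ iT) : Matrix (Fin n) (Fin n) k) =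
      Matrix.diagonal fun j => ptChr C τ (Multiplicative.ofAdd (a j)))
    (x : VecGrp.pt k k ⟶ G)
    (hx : ∀ i, ((mtxFn r x : Matrix (Fin n) (Fin n) k).submatrix
      (Subtype.val : upIdx (wt a b) i → Fin n) Subtype.val).det ≠ 0) :
    ∃ p q : VecGrp.pt k k ⟶ G, x = p * q ∧ mtxFn r p ∈ blockUp (wt a (-b)) ∧ mtxFn r q ∈ blockUp (wt a b) := by
  haveI : IsAffine (GLs k n).left := inferInstanceAs (IsAffine (Spec _))
  haveI : Smooth (GLs k n).hom := smooth_sp_GLn k n
  haveI : IsClosedImmersion (𝟙 (GLs k n) : GLs k n ⟶ GLs k n).left :=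
    inferInstanceAs (IsClosedImmersion (𝟙 (GLs k n).left))
  obtain ⟨m, R, hR, c, χ, hχ, hsemi, hρ, -, hline⟩ := exists_lineRep r
  haveI := hR
  obtain ⟨y, hy, hy0, hu⟩ := exists_elim (wt a b) (mtxFn r x) hx
  set u := y * mtxFn r x with hu'
  obtain ⟨zy, hzy⟩ := mtxFn_surjective y
  obtain ⟨zu, hzu⟩ := mtxFn_surjective u
  have hgl : ∀ p : VecGrp.pt k k ⟶ G, mtxFn (𝟙 (GLs k n)) (p ≫ r) = mtxFn r p := fun p => by
    rw [← mtxFn_comp, Category.comp_id]
  have hz : zu = zy * (x ≫ r) := mtxFn_injective (𝟙 (GLs k n)) (by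
    rw [hzu, ← mtx_apply (𝟙 (GLs k n)), map_mul, mtx_apply, mtx_apply, hzy, hgl])
  have hsemi' : ∀ (z : VecGrp.pt k k ⟶ GLs k n) (p : VecGrp.pt k k ⟶ G),
      vec c (z * (p ≫ r)) = val p (Red.gmFn χ) • vec c z := fun z p => funext fun α => hsemi α z p
  have hρ' : ∀ g z : VecGrp.pt k k ⟶ GLs k n,
      vec c (g * z) = (mtx R g : Matrix (Fin m) (Fin m) k) *ᵥ vec c z := fun g z => funext fun α => hρ g z α
  set χx : k := val x (Red.gmFn χ)
  have hc : vec c zu = χx • vec c zy := by rw [hz, hsemi']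
  have key : ∀ α, val zu (c α) = χx * val (1 : VecGrp.pt k k ⟶ GLs k n) (c α) := fun α => by
    obtain ⟨a', ha'⟩ := exists_eq_appTop (𝟙 (GLs k n)) (c α)
    have hval : ∀ z : VecGrp.pt k k ⟶ GLs k n, val z (c α) = evalGL (mtxFn (𝟙 (GLs k n)) z) a' := fun z => by
      rw [← ha', val_eq_evalGL]
    obtain ⟨P, hP⟩ := exists_poly_of_isReg (isReg_evalGL a') (curve (wt a b) (u : Matrix (Fin n) (Fin n) k)) _
      (MatGrp21.det_ne_zero u)
    obtain ⟨Q, hQ⟩ := exists_poly_of_isReg (isReg_evalGL a')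
      (curve (fun i => -wt a b i) (y : Matrix (Fin n) (Fin n) k)) _ (MatGrp21.det_ne_zero y)
    have hPQ : ∀ s : kˣ, P.eval (s : k) = (Polynomial.C χx * Q).eval ((s⁻¹ : kˣ) : k) := fun s => by
      obtain ⟨τ, hτ⟩ := exists_scalePt C hdiag b s
      have hτ' : (mtxFn r (τ ≫ iT) : Matrix (Fin n) (Fin n) k) = dg (fun i => -wt a b i) s⁻¹ := by
        rw [hτ, dg, dg]
        congr 1
        funext i
        rw [inv_zpow, zpow_neg, inv_inv]
      set t : VecGrp.pt k k ⟶ GLs k n := (τ ≫ iT) ≫ r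
      have hconj : ∀ z : VecGrp.pt k k ⟶ GLs k n, mtxFn (𝟙 (GLs k n)) (t * z * t⁻¹) =
          mtxFn r (τ ≫ iT) * mtxFn (𝟙 (GLs k n)) z * (mtxFn r (τ ≫ iT))⁻¹ := fun z => by
        rw [← mtx_apply (𝟙 (GLs k n)), map_mul, map_mul, map_inv, mtx_apply, mtx_apply, hgl]
      have hlin : vec c (t * zu * t⁻¹) = χx • vec c (t * zy * t⁻¹) := by
        have ht : t⁻¹ = (τ ≫ iT)⁻¹ ≫ r := (GrpObj.inv_comp _ _).symm
        rw [_root_.mul_assoc, _root_.mul_assoc, hρ' t, hρ' t, ht, hsemi', hsemi', hc, Matrix.mulVec_smul,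
          Matrix.mulVec_smul, Matrix.mulVec_smul, smul_comm]
      have h1 := congrFun hlin α
      rw [Pi.smul_apply, smul_eq_mul] at h1
      simp only [vec, hval, hconj, hzu, hzy] at h1
      have hd : ∀ g h : GL (Fin n) k, ((h * g * h⁻¹ : GL (Fin n) k) : Matrix (Fin n) (Fin n) k).det =
          (g : Matrix (Fin n) (Fin n) k).det := fun g h => by
        rw [Units.val_mul, Units.val_mul, Matrix.det_units_conj]
      rw [Polynomial.eval_mul, Polynomial.eval_C,
        ← hP _ _ (conj_eq_curveAt hτ hu) (hd _ _), ← hQ _ _ (conj_eq_curveAt hτ' hy) (hd _ _)]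
      exact h1
    have h2 := eval_one_eq_of_reflect P (Polynomial.C χx * Q) hPQ
    rw [Polynomial.eval_mul, Polynomial.eval_C, ← hP u 1 (curveAt_one _ _).symm rfl, ← hQ 1 0 ?_ ?_] at h2
    · rw [hval, hzu, h2, hval, ← mtx_apply, map_one]
    · rw [Units.val_one]; exact hy0.symm
    · rw [Units.val_one, Matrix.det_one, ← det_curveAt hy 0, hy0, Matrix.det_one]
  obtain ⟨q, hq⟩ := hline zu fun α β => by rw [key, key]; ring
  have hqu : mtxFn r q = u := by rw [← hgl, hq, hzu]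
  refine ⟨x * q⁻¹, q, by group, ?_, hqu ▸ hu⟩
  rw [← mtx_apply, map_mul, map_inv, mtx_apply, mtx_apply, hqu, hu', mul_inv_rev, mul_inv_cancel_left, wt_neg]
  exact inv_mem (show y ∈ blockUp _ from hy)

variable [IsAffine G.left] [ConnectedSpace G.left]

set_option maxHeartbeats 1600000 in
/-- **The open cell.** -/
theorem exists_open_cell {B : Over (Spec (CommRingCat.of k))} [GrpObj B] {iB : B ⟶ G}
    (hB : Red.IsBorelOver k iB) :
    ∃ (D : Over (Spec (CommRingCat.of k))) (_ : GrpObj D) (iD : D ⟶ G) (h : Γ(G.left, ⊤)),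
      IsMonHom iD ∧ IsClosedImmersion iD.left ∧ Smooth D.hom ∧ ConnectedSpace D.left ∧ Red.IsSolvableGrp D ∧
      val (1 : VecGrp.pt k k ⟶ G) h ≠ 0 ∧
      ∀ x : VecGrp.pt k k ⟶ G, val x h ≠ 0 →
        ∃ (p : VecGrp.pt k k ⟶ D) (q : VecGrp.pt k k ⟶ B), x = (p ≫ iD) * (q ≫ iB) := by
  classical
  obtain ⟨T, _, iT, hT⟩ := exists_maxTorus G
  haveI := hT.1
  haveI := hT.2.1
  obtain ⟨hTa, hTs, hTc, -⟩ := props_of_isTorus hT.2.2.1
  haveI := hTa
  haveI := hTs
  haveI := hTc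
  haveI := isClosedImmersion_of_torus hT.2.2.1 iT
  obtain ⟨n, r₀, hr₀, hr₀c⟩ := GrassAct21.exists_embedding_GL G
  haveI := hr₀
  haveI := hr₀c
  obtain ⟨d, ⟨C⟩⟩ := exists_chars hT.2.2.1
  obtain ⟨P, a, ha⟩ := exists_weights C (iT ≫ r₀)
  obtain ⟨zP, hzP⟩ := mtxFn_surjective P
  obtain ⟨P', hP'⟩ := exists_gpt zP
  let r : G ⟶ GLs k n := AGF.conjBy P' r₀
  haveI : IsMonHom r := isMonHom_conjBy P' r₀
  haveI : IsClosedImmersion r.left := isClosedImmersion_conjBy P' r₀
  have hdiag : ∀ τ : VecGrp.pt k k ⟶ T, (mtxFn r (τ ≫ iT) : Matrix (Fin n) (Fin n) k) =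
      Matrix.diagonal fun j => ptChr C τ (Multiplicative.ofAdd (a j)) := fun τ => by
    have h1 := mtxFn_conjBy (𝟙 (GLs k n)) P' r₀ (τ ≫ iT)
    rw [Category.comp_id, Category.comp_id, hP', hzP] at h1
    rw [h1, ← mtxFn_comp iT r₀ τ]
    exact ha τ
  obtain ⟨b, hb⟩ := exists_pairing_ne_zero
    ((Finset.univ.image fun p : Fin n × Fin n => a p.1 - a p.2).filter (· ≠ 0)) fun v hv => (Finset.mem_filter.1 hv).2
  have hsep : ∀ i j, wt a b i = wt a b j → a i = a j := fun i j h => by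
    by_contra hne
    refine hb (a i - a j) (Finset.mem_filter.2 ⟨Finset.mem_image.2 ⟨(i, j), Finset.mem_univ _, rfl⟩,
      sub_ne_zero.2 hne⟩) ?_
    simp only [TorPts21.pairing, Pi.sub_apply, sub_mul, Finset.sum_sub_distrib]
    exact sub_eq_zero.2 h
  have hsep' : ∀ i j, wt a (-b) i = wt a (-b) j → a i = a j := fun i j h =>
    hsep i j (by rw [wt_neg] at h; exact neg_injective h)
  obtain ⟨Cz, _, cz, hcz, hczc, hczs⟩ :=
    MTRigid29.exists_centralizer (MTRigid29.isMT_of_ft (isMultTypeFT_of_isTorus hT.2.2.1)) ‹_› inferInstance iT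
  obtain ⟨hczm, hczci, hczs', hcza⟩ := centralizer_props hT.2.2.1 hcz
  haveI := hczm
  haveI := hczci
  haveI := hczs'
  haveI := hcza
  haveI := connectedSpace_centralizer_closed hT.2.2.1 hcz
  haveI : Mono cz := Over.mono_of_mono_left cz
  obtain ⟨tC, htC, htm⟩ := exists_lift_centralizer hcz (fun x y => commute_of_chars C x y)
  haveI := htm
  haveI : Mono (tC ≫ cz) := htC.symm ▸ hT.2.1
  haveI : Mono tC := mono_of_mono tC cz
  have hT' : AGF.IsMaxTorus tC := ⟨htm, inferInstance, hT.2.2.1, fun T' _ j _ _ f hT' hf =>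
    hT.2.2.2 T' (j ≫ cz) f hT' (by rw [← Category.assoc, hf, htC])⟩
  obtain ⟨N, hN⟩ := isSolvableGrp_of_central_maxTorus hT' fun x y => (cancel_mono cz).1 (by
    rw [MonObj.mul_comp, MonObj.mul_comp, Category.assoc y, htC]
    exact centralizer_comm hcz x y)
  haveI : Group.IsSolvable (VecGrp.pt k k ⟶ Cz) := (Group.isSolvable_def _).2 ⟨N, hN _⟩
  have hcent : ∀ x : VecGrp.pt k k ⟶ G, (∀ τ : VecGrp.pt k k ⟶ T, x * (τ ≫ iT) = (τ ≫ iT) * x) ↔
      ∃ z : VecGrp.pt k k ⟶ Cz, z ≫ cz = x := fun x => by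
    refine ⟨fun hx => ?_, fun ⟨z, hz⟩ τ => hz ▸ centralizer_comm hcz z τ⟩
    obtain ⟨g, rfl⟩ := exists_gpt x
    obtain ⟨z, rfl⟩ := exists_lift_centralizer_pt hT.2.2.1 hcz g hx
    exact ⟨gpt z, Category.assoc _ _ _⟩
  obtain ⟨Zp, _, jp, hjp, hjpc, hps, hpn, hpsol, hppts⟩ := exists_upperGroup C hdiag hsep hcent
  obtain ⟨Zm, _, jm, hjm, hjmc, hms, hmn, hmsol, hmpts⟩ := exists_upperGroup C hdiag hsep' hcent
  haveI := hjp
  haveI := hjpc
  haveI := hps
  haveI := hpn
  haveI := hjm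
  haveI := hjmc
  obtain ⟨Bp, _, iBp, f, hBp, hf⟩ := BorelFix21.exists_le_borel jp hpsol
  obtain ⟨g, φ, hφ⟩ := BorelFix21.exists_conjBy iBp iB hBp hB
  -- the product of minors
  let hfun : Γ(G.left, ⊤) := ∏ i : Fin n,
    ((DiagGL.mat r).submatrix (Subtype.val : upIdx (wt a b) i → Fin n) Subtype.val).det
  have hval : ∀ x : VecGrp.pt k k ⟶ G, val x hfun = ∏ i : Fin n, ((mtxFn r x : Matrix (Fin n) (Fin n) k).submatrix
      (Subtype.val : upIdx (wt a b) i → Fin n) Subtype.val).det := fun x => by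
    rw [map_prod]
    refine Finset.prod_congr rfl fun i _ => ?_
    rw [AlgHom.map_det, coe_mtxFn, mtxMat, DiagGL.mat_comp]
    rfl
  refine ⟨Zm, inferInstance, AGF.conjBy g jm,
    (rTr (gpt g)).left.appTop ((lTr (gpt g)⁻¹).left.appTop hfun), isMonHom_conjBy g jm,
    isClosedImmersion_conjBy g jm, hms, hmn, hmsol, ?_, fun x hx => ?_⟩
  · rw [val_rTr, val_lTr, _root_.one_mul, inv_mul_cancel, hval]
    refine Finset.prod_ne_zero_iff.2 fun i _ => ?_
    rw [← mtx_apply, map_one, Units.val_one, Matrix.submatrix_one _ Subtype.val_injective, Matrix.det_one]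
    exact one_ne_zero
  · rw [val_rTr, val_lTr, hval] at hx
    obtain ⟨p, q, hpq, hp, hq⟩ := exists_factor C r a b hdiag _ fun i => (Finset.prod_ne_zero_iff.1 hx) i (Finset.mem_univ _)
    obtain ⟨p', hp'⟩ := (hmpts p).2 hp
    obtain ⟨q', hq'⟩ := (hppts q).2 hq
    refine ⟨p', (q' ≫ f) ≫ φ.hom, ?_⟩
    rw [Category.assoc _ φ.hom, hφ, comp_conjBy, comp_conjBy, Category.assoc q', hf, hq', hp',
      show toUnit (VecGrp.pt k k) ≫ g = gpt g from rfl]
    calc x = gpt g * ((gpt g)⁻¹ * (x * gpt g)) * (gpt g)⁻¹ := by group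
      _ = _ := by rw [hpq]; group

end Groth.Agent.BigCell21
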