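import Groth.Agent.Lib.MatGrp21.Zariski
import Mathlib.LinearAlgebra.Matrix.Block
import Mathlib.Algebra.Polynomial.Roots

/-!
# Matrices contracted by a one-parameter diagonal group
-/

set_option autoImplicit false
set_option linter.style.haveILetI false
universe u

open Polynomial

noncomputable section

namespace Groth.Agent.BigCell21

open MatGrp21

variable {k : Type u} [Field k] {n : ℕ}

local notation "Mat" => Matrix (Fin n) (Fin n) k
local notation "GLk" => GL (Fin n) k

/-- The matrices vanishing at the places where the weight increases. -/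
def IsUp (w : Fin n → ℤ) (M : Mat) : Prop := ∀ i j, w i < w j → M i j = 0

theorem isUp_iff (w : Fin n → ℤ) (M : Mat) : IsUp w M ↔ M.BlockTriangular (fun i => -w i) :=
  ⟨fun h i j hij => h i j (neg_lt_neg_iff.1 hij), fun h _ _ hij => h (neg_lt_neg hij)⟩

/-- The invertible matrices vanishing at the places where the weight increases. -/
def blockUp (w : Fin n → ℤ) : Subgroup GLk where
  carrier := {g | IsUp w (g : Mat)}
  one_mem' := (isUp_iff w _).2 (by simpa using Matrix.blockTriangular_one (R := k))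
  mul_mem' {a b} ha hb := (isUp_iff w _).2 (by
    rw [Units.val_mul]; exact ((isUp_iff w _).1 ha).mul ((isUp_iff w _).1 hb))
  inv_mem' {a} ha := (isUp_iff w _).2 (by
    rw [Matrix.coe_units_inv]
    haveI : Invertible (a : Mat) := a.invertible
    exact Matrix.blockTriangular_inv_of_blockTriangular ((isUp_iff w _).1 ha))

theorem mem_blockUp {w : Fin n → ℤ} {g : GLk} : g ∈ blockUp w ↔ IsUp w (g : Mat) := Iff.rfl

theorem isClosed_blockUp (w : Fin n → ℤ) : IsClosed (blockUp (k := k) w : Set GLk) := by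
  have : (blockUp (k := k) w : Set GLk) =
      ⋂ (i : Fin n) (j : Fin n) (_ : w i < w j), {g : GLk | (g : Mat) i j = 0} := by
    ext g; simp [mem_blockUp, IsUp]
  rw [this]
  exact isClosed_iInter fun i => isClosed_iInter fun j => isClosed_iInter fun _ =>
    MatGrp21.isClosed_eq (isReg_entry i j) (isReg_const 0)

/-- The curve `s ↦ s^w M s^{-w}`. -/
def curve (w : Fin n → ℤ) (M : Mat) : Matrix (Fin n) (Fin n) k[X] :=
  Matrix.of fun i j => C (M i j) * X ^ (w i - w j).toNat

/-- The value of the curve at a parameter. -/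
def curveAt (w : Fin n → ℤ) (M : Mat) (s : k) : Mat := (curve w M).map (eval s)

theorem curveAt_apply (w : Fin n → ℤ) (M : Mat) (s : k) (i j : Fin n) :
    curveAt w M s i j = M i j * s ^ (w i - w j).toNat := by
  simp [curveAt, curve]

theorem curveAt_one (w : Fin n → ℤ) (M : Mat) : curveAt w M 1 = M := by
  ext i j; simp [curveAt_apply]

theorem curveAt_zero_apply {w : Fin n → ℤ} {M : Mat} (hM : IsUp w M) (i j : Fin n) :
    curveAt w M 0 i j = if w i = w j then M i j else 0 := by
  rw [curveAt_apply]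
  split_ifs with h
  · simp [h]
  · rcases lt_or_gt_of_ne h with h' | h'
    · simp [hM i j h']
    · rw [zero_pow (by omega), mul_zero]

/-- The diagonal matrix of the powers of a parameter. -/
def dg (w : Fin n → ℤ) (s : kˣ) : Mat := Matrix.diagonal fun i => ((s ^ w i : kˣ) : k)

theorem curveAt_mul_dg {w : Fin n → ℤ} {M : Mat} (hM : IsUp w M) (s : kˣ) :
    curveAt w M (s : k) * dg w s = dg w s * M := by
  ext i j
  rw [dg, Matrix.mul_diagonal, Matrix.diagonal_mul, curveAt_apply]
  by_cases h : w i < w j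
  · simp [hM i j h]
  · rw [mul_assoc, mul_comm _ (M i j)]
    congr 1
    rw [← Units.val_pow_eq_pow_val, ← Units.val_mul, ← zpow_natCast, ← zpow_add,
      Int.toNat_of_nonneg (by omega), sub_add_cancel]

theorem conj_eq_curveAt {w : Fin n → ℤ} {d g : GLk} {s : kˣ} (hd : (d : Mat) = dg w s) (hg : IsUp w (g : Mat)) :
    ((d * g * d⁻¹ : GLk) : Mat) = curveAt w (g : Mat) (s : k) := by
  rw [Units.val_mul, Units.val_mul, hd, ← curveAt_mul_dg hg s, ← hd, mul_assoc, ← Units.val_mul,
    mul_inv_cancel, Units.val_one, mul_one]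

theorem det_curveAt [Infinite k] {w : Fin n → ℤ} {M : Mat} (hM : IsUp w M) (s : k) :
    (curveAt w M s).det = M.det := by
  have h : (curve w M).det = C M.det := by
    refine Polynomial.eq_of_infinite_eval_eq _ _ ((Set.finite_singleton (0 : k)).infinite_compl.mono ?_)
    intro s hs
    have hdg : (dg (k := k) w (Units.mk0 s hs)).det ≠ 0 := by
      rw [dg, Matrix.det_diagonal]
      exact Finset.prod_ne_zero_iff.2 fun i _ => Units.ne_zero _
    have h2 := congrArg Matrix.det (curveAt_mul_dg hM (Units.mk0 s hs))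
    rw [Matrix.det_mul, Matrix.det_mul, mul_comm, mul_right_inj' hdg] at h2
    show eval s _ = eval s _
    rw [eval_C, ← h2]
    exact RingHom.map_det (evalRingHom s) (curve w M)
  have h2 := congrArg (eval s) h
  rw [eval_C] at h2
  exact (RingHom.map_det (evalRingHom s) (curve w M)).symm.trans h2

theorem exists_curveGL [Infinite k] {w : Fin n → ℤ} {g : GLk} (hg : IsUp w (g : Mat)) (s : k) :
    ∃ g' : GLk, (g' : Mat) = curveAt w (g : Mat) s :=
  ⟨Matrix.GeneralLinearGroup.mkOfDetNeZero (curveAt w (g : Mat) s)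
    (det_curveAt hg s ▸ MatGrp21.det_ne_zero g), rfl⟩

theorem eval_ent_eq (Y : Matrix (Fin n) (Fin n) k[X]) (p : MvPolynomial (Fin n × Fin n) k) {g : GLk} {s : k}
    (hg : (g : Mat) = Y.map (eval s)) :
    MvPolynomial.eval (ent g) p = eval s (MvPolynomial.aeval (fun q : Fin n × Fin n => Y q.1 q.2) p) := by
  induction p using MvPolynomial.induction_on with
  | C c => simp
  | add p q hp hq => simp only [map_add, eval_add, hp, hq]
  | mul_X p q hp =>
    simp only [map_mul, eval_mul, hp, MvPolynomial.aeval_X, MvPolynomial.eval_X]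
    congr 1
    simp [ent, hg]

/-- A closed set containing infinitely many points of a polynomial curve contains all its points. -/
theorem mem_of_infinite {S : Set GLk} (hS : IsClosed S) (Y : Matrix (Fin n) (Fin n) k[X])
    (hinf : {s : k | ∃ g ∈ S, (g : Mat) = Y.map (eval s)}.Infinite) {g₀ : GLk} {s₀ : k}
    (h₀ : (g₀ : Mat) = Y.map (eval s₀)) : g₀ ∈ S := by
  obtain ⟨P, hP⟩ := MatGrp21.isClosed_iff.1 hS
  refine (hP g₀).2 fun p hp => ?_
  have hq : MvPolynomial.aeval (fun q : Fin n × Fin n => Y q.1 q.2) p = (0 : k[X]) :=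
    Polynomial.eq_zero_of_infinite_isRoot _ (hinf.mono fun s hs => by
      obtain ⟨g, hg, hgY⟩ := hs
      show eval s _ = 0
      rw [← eval_ent_eq Y p hgY]
      exact (hP g).1 hg p hp)
  rw [eval_ent_eq Y p h₀, hq, eval_zero]

/-- A closed set containing the curve away from zero contains its limit. -/
theorem limit_mem [Infinite k] {S : Set GLk} (hS : IsClosed S) (Y : Matrix (Fin n) (Fin n) k[X])
    (h : ∀ s : kˣ, ∃ g ∈ S, (g : Mat) = Y.map (eval (s : k))) {g₀ : GLk}
    (h₀ : (g₀ : Mat) = Y.map (eval 0)) : g₀ ∈ S :=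
  mem_of_infinite hS Y ((Set.finite_singleton (0 : k)).infinite_compl.mono fun s hs => h (Units.mk0 s hs)) h₀

/-- A polynomial curve of invertible matrices is preconnected. -/
theorem isPreconnected_curve [Infinite k] (Y : Matrix (Fin n) (Fin n) k[X])
    (h : ∀ s, ∃ g : GLk, (g : Mat) = Y.map (eval s)) :
    IsPreconnected {g : GLk | ∃ s, (g : Mat) = Y.map (eval s)} := by
  rw [isPreconnected_closed_iff]
  intro t t' ht ht' hsub hne hne'
  by_cases h1 : {s : k | ∃ g ∈ t, (g : Mat) = Y.map (eval s)}.Infinite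
  · obtain ⟨g, ⟨s, hs⟩, hg⟩ := hne'
    exact ⟨g, ⟨s, hs⟩, mem_of_infinite ht Y h1 hs, hg⟩
  · obtain ⟨g, ⟨s, hs⟩, hg⟩ := hne
    refine ⟨g, ⟨s, hs⟩, hg, mem_of_infinite ht' Y ((Set.not_infinite.1 h1).infinite_compl.mono ?_) hs⟩
    intro a ha
    obtain ⟨g', hg'⟩ := h a
    rcases hsub ⟨a, hg'⟩ with h' | h'
    · exact absurd ⟨g', h', hg'⟩ ha
    · exact ⟨g', h', hg'⟩

/-- A regular function along a curve of constant determinant is a polynomial. -/
theorem exists_poly_of_isReg {F : GLk → k} (hF : IsReg F) (Y : Matrix (Fin n) (Fin n) k[X]) (d : k) (hd : d ≠ 0) :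
    ∃ q : k[X], ∀ (g : GLk) (s : k), (g : Mat) = Y.map (eval s) → (g : Mat).det = d → F g = q.eval s := by
  obtain ⟨p, N, hp⟩ := hF
  refine ⟨C ((d ^ N)⁻¹) * MvPolynomial.aeval (fun q : Fin n × Fin n => Y q.1 q.2) p, fun g s hg hdet => ?_⟩
  rw [eval_mul, eval_C, ← eval_ent_eq Y p hg, ← hp g, hdet]
  field_simp

/-- A polynomial in `s` equal to a polynomial in `s⁻¹` is constant. -/
theorem eval_one_eq_of_reflect [Infinite k] (P Q : k[X]) (h : ∀ s : kˣ, P.eval (s : k) = Q.eval ((s⁻¹ : kˣ) : k)) :
    P.eval 1 = Q.eval 0 := by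
  have heq : P * X ^ Q.natDegree = Q.reverse := by
    refine Polynomial.eq_of_infinite_eval_eq _ _ ((Set.finite_singleton (0 : k)).infinite_compl.mono ?_)
    intro s hs
    replace hs : s ≠ 0 := hs
    show eval s _ = eval s _
    haveI : Invertible s⁻¹ := invertibleOfNonzero (inv_ne_zero hs)
    have h2 := eval₂_reverse_mul_pow (RingHom.id k) s⁻¹ Q
    simp only [invOf_eq_inv, inv_inv, eval₂_id] at h2
    have h3 := h (Units.mk0 s hs)
    simp only [Units.val_inv_eq_inv_val, Units.val_mk0] at h3
    rw [eval_mul, eval_pow, eval_X, h3, ← h2, mul_assoc, ← mul_pow, inv_mul_cancel₀ hs, one_pow, mul_one]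
  by_cases hP : P = 0
  · rw [hP, zero_mul] at heq
    rw [hP, eval_zero, Polynomial.reverse_eq_zero.1 heq.symm, eval_zero]
  · have h2 : P.natDegree + Q.natDegree ≤ Q.natDegree := by
      have := Q.reverse_natDegree_le
      rwa [← heq, natDegree_mul hP (pow_ne_zero _ X_ne_zero), natDegree_X_pow] at this
    have hC := eq_C_of_natDegree_eq_zero (by omega : P.natDegree = 0)
    have h3 := congrArg (fun f => Polynomial.coeff f Q.natDegree) heq
    rw [hC, coeff_C_mul, coeff_X_pow, if_pos rfl, mul_one, coeff_reverse, revAt_le le_rfl, Nat.sub_self] at h3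
    rw [hC, eval_C, ← coeff_zero_eq_eval_zero, h3]

/-- The set of indices of larger weight. -/
abbrev upIdx (w : Fin n → ℤ) (i : Fin n) : Type := {l : Fin n // w i < w l}

/-- Elimination of the upper blocks by a unipotent matrix of the opposite shape. -/
theorem exists_elim [Infinite k] (w : Fin n → ℤ) (M : GLk)
    (h : ∀ i, ((M : Mat).submatrix (Subtype.val : upIdx w i → Fin n) Subtype.val).det ≠ 0) :
    ∃ y : GLk, IsUp (fun i => -w i) (y : Mat) ∧ curveAt (fun i => -w i) (y : Mat) 0 = 1 ∧ y * M ∈ blockUp w := by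
  classical
  let v : (i : Fin n) → upIdx w i → k := fun i =>
    Matrix.vecMul (fun j : upIdx w i => -(M : Mat) i j) ((M : Mat).submatrix (Subtype.val : upIdx w i → Fin n) Subtype.val)⁻¹
  have hv : ∀ i, Matrix.vecMul (v i) ((M : Mat).submatrix (Subtype.val : upIdx w i → Fin n) Subtype.val) =
      fun j : upIdx w i => -(M : Mat) i j := fun i => by
    simp only [v, Matrix.vecMul_vecMul]
    rw [Matrix.nonsing_inv_mul _ (isUnit_iff_ne_zero.2 (h i)), Matrix.vecMul_one]
  let L : Mat := fun i l => if hl : w i < w l then v i ⟨l, hl⟩ else 0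
  have hup : IsUp (fun i => -w i) (1 + L) := fun i j hij => by
    replace hij : w j < w i := neg_lt_neg_iff.1 hij
    rw [Matrix.add_apply, Matrix.one_apply_ne (fun e => (hij.ne' (congrArg w e))), zero_add]
    exact dif_neg (lt_asymm hij)
  have hc0 : curveAt (fun i => -w i) (1 + L) 0 = 1 := by
    ext i j
    rw [curveAt_zero_apply hup]
    split_ifs with hw
    · rw [Matrix.add_apply, show L i j = 0 from dif_neg (by simp at hw; omega), add_zero]
    · rw [Matrix.one_apply_ne]
      exact fun e => hw (by rw [e])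
  have hdet : (1 + L).det = 1 := by rw [← det_curveAt hup 0, hc0, Matrix.det_one]
  refine ⟨Matrix.GeneralLinearGroup.mkOfDetNeZero (1 + L) (by rw [hdet]; exact one_ne_zero), hup, hc0, ?_⟩
  intro i j hij
  show ((1 + L) * (M : Mat)) i j = 0
  rw [add_mul, one_mul, Matrix.add_apply, Matrix.mul_apply]
  have h1 := congrFun (hv i) ⟨j, hij⟩
  simp only [Matrix.vecMul, dotProduct, Matrix.submatrix_apply] at h1
  have h2 : ∑ l, L i l * (M : Mat) l j = ∑ l : upIdx w i, v i l * (M : Mat) l j := by
    rw [← Finset.sum_subtype (Finset.univ.filter fun l => w i < w l) (by simp) (fun l => L i l * (M : Mat) l j) |>.trans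
      (Finset.sum_congr rfl fun l _ => by simp [L, l.2])]
    exact (Finset.sum_filter_of_ne fun l _ hl => by
      by_contra h3
      exact hl (by simp [L, h3])).symm
  rw [h2, h1, add_neg_cancel]

end Groth.Agent.BigCell21
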